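import Groth.Agent.S7635
import Groth.Agent.AmpleNilLib.Basic
import Groth.Agent.VBResLib.KPull
import Groth.Agent.EulerPnLib.Apps
import Groth.Agent.HodgePnLib.Dims
import Groth.Agent.HdgLefLib.Main
import Groth.Agent.CIDivLib.Peel
import Groth.Agent.PnCohLib.Twist
import Groth.Agent.PicPnLib.BaseChange

/-!
# Bidegree twists on the product of two projective lines
-/

set_option autoImplicit false
set_option linter.style.haveILetI false
set_option linter.unusedSectionVars false
set_option maxHeartbeats 1000000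
set_option backward.isDefEq.respectTransparency false
set_option backward.isDefEq.respectTransparency.types false

universe u

open CategoryTheory CategoryTheory.Limits AlgebraicGeometry TopologicalSpace
open scoped TensorProduct

noncomputable section

namespace QuadKerLib

variable (k : Type u) [Field k]

/-- The quadric. -/
abbrev X : Scheme.{u} := pullback (CohB1.ProjSpace.toSpec 1 k) (CohB1.ProjSpace.toSpec 1 k)

/-- The quadric over the field. -/
@[reducible] def overX : (X k).Over (Spec (CommRingCat.of k)) := ⟨pullback.fst _ _ ≫ CohB1.ProjSpace.toSpec 1 k⟩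

attribute [local instance] overX

/-- The invertible module of bidegree `(a, b)`. -/
abbrev bi (a b : ℤ) : (X k).Modules :=
  CohB1.tensorMod ((Scheme.Modules.pullback (pullback.fst (CohB1.ProjSpace.toSpec 1 k) (CohB1.ProjSpace.toSpec 1 k))).obj
      (Twist.twistProjSpace 1 k a))
    ((Scheme.Modules.pullback (pullback.snd (CohB1.ProjSpace.toSpec 1 k) (CohB1.ProjSpace.toSpec 1 k))).obj
      (Twist.twistProjSpace 1 k b))

theorem inv_bi (a b : ℤ) : PicF.IsInvertible (bi k a b) :=
  HilbPolyLib.isInvertible_tensor (AmpleDevLib.isInvertible_pb _ (PicPnLib.twist_inv 1 k a))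
    (AmpleDevLib.isInvertible_pb _ (PicPnLib.twist_inv 1 k b))

theorem isProper_X : IsProper ((X k) ↘ Spec (CommRingCat.of k)) := by
  haveI : IsProper (CohB1.ProjSpace.toSpec 1 k) := ProjDegLib.toSpec_isProper k 1
  exact inferInstanceAs (IsProper (pullback.fst (CohB1.ProjSpace.toSpec 1 k) (CohB1.ProjSpace.toSpec 1 k) ≫
    CohB1.ProjSpace.toSpec 1 k))

theorem isLN_X : IsLocallyNoetherian (X k) := by
  haveI := isProper_X k
  exact (CurvLib.isNoetherian k (X := X k)).toIsLocallyNoetherian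

/-- **Künneth for the twists.** -/
theorem nonempty_kunneth (a b : ℤ) (n : ℕ) :
    Nonempty ((Π p : Fin (n + 1), Coh.HH (CohB1.ProjSpace 1 k) (Twist.twistProjSpace 1 k a) (p : ℕ) ⊗[k]
      Coh.HH (CohB1.ProjSpace 1 k) (Twist.twistProjSpace 1 k b) (n - (p : ℕ))) ≃ₗ[k] Coh.HH (X k) (bi k a b) n) := by
  haveI : IsProper (CohB1.ProjSpace.toSpec 1 k) := ProjDegLib.toSpec_isProper k 1
  haveI : IsProper (CohB1.ProjSpace 1 k ↘ Spec (CommRingCat.of k)) := ProjDegLib.toSpec_isProper k 1
  haveI : CompactSpace ↥(CohB1.ProjSpace 1 k) :=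
    QuasiCompact.compactSpace_of_compactSpace (CohB1.ProjSpace.toSpec 1 k)
  have hq : ∀ t : ℤ, Coh.IsQCoh (Twist.twistProjSpace 1 k t) := fun t =>
    FinLFAnn.isQCoh_of_isFinLocFree (AmpleDevLib.isFinLocFree_of_isInvertible (PicPnLib.twist_inv 1 k t))
  exact Groth.Agent.S7635.result k (CohB1.ProjSpace 1 k) (CohB1.ProjSpace 1 k) (Twist.twistProjSpace 1 k a) (hq a)
    (Twist.twistProjSpace 1 k b) (hq b) n

theorem subsingleton_tensor {V W : Type u} [AddCommGroup V] [Module k V] [AddCommGroup W] [Module k W]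
    (h : Subsingleton V ∨ Subsingleton W) : Subsingleton (V ⊗[k] W) := by
  refine subsingleton_of_forall_eq 0 fun x => ?_
  induction x using TensorProduct.induction_on with
  | zero => rfl
  | tmul v w =>
    rcases h with h | h
    · rw [h.elim v 0, TensorProduct.zero_tmul]
    · rw [h.elim w 0, TensorProduct.tmul_zero]
  | add x y hx hy => rw [hx, hy, add_zero]

theorem subsingleton_bi (a b : ℤ) (n : ℕ)
    (h : ∀ p ≤ n, Subsingleton (Coh.HH (CohB1.ProjSpace 1 k) (Twist.twistProjSpace 1 k a) p) ∨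
      Subsingleton (Coh.HH (CohB1.ProjSpace 1 k) (Twist.twistProjSpace 1 k b) (n - p))) :
    Subsingleton (Coh.HH (X k) (bi k a b) n) := by
  obtain ⟨e⟩ := nonempty_kunneth k a b n
  haveI : ∀ p : Fin (n + 1), Subsingleton (Coh.HH (CohB1.ProjSpace 1 k) (Twist.twistProjSpace 1 k a) (p : ℕ) ⊗[k]
      Coh.HH (CohB1.ProjSpace 1 k) (Twist.twistProjSpace 1 k b) (n - (p : ℕ))) :=
    fun p => subsingleton_tensor k (h p (by omega))
  exact e.symm.toEquiv.subsingleton

theorem sub0 (a b : ℤ) (h : a < 0 ∨ b < 0) : Subsingleton (Coh.HH (X k) (bi k a b) 0) :=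
  subsingleton_bi k a b 0 fun p hp => h.imp
    (fun ha => PnCohLib.subsingleton_HH_twist a p (fun e => by omega) (fun e => by omega))
    (fun hb => PnCohLib.subsingleton_HH_twist b (0 - p) (fun e => by omega) (fun e => by omega))

theorem sub1 (a b : ℤ) (h₁ : a < 0 ∨ -1 ≤ b) (h₂ : -1 ≤ a ∨ b < 0) : Subsingleton (Coh.HH (X k) (bi k a b) 1) :=
  subsingleton_bi k a b 1 fun p hp => by
    rcases Nat.eq_zero_or_pos p with rfl | h
    · exact h₁.imp (fun ha => PnCohLib.subsingleton_HH_twist a 0 (fun e => by omega) (fun e => by omega))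
        (fun hb => PnCohLib.subsingleton_HH_twist b _ (fun e => by omega) (fun e => by omega))
    · obtain rfl : p = 1 := by omega
      exact h₂.imp (fun ha => PnCohLib.subsingleton_HH_twist a 1 (fun e => by omega) (fun e => by omega))
        (fun hb => PnCohLib.subsingleton_HH_twist b _ (fun e => by omega) (fun e => by omega))

theorem sub2 (a b : ℤ) (h : -1 ≤ a ∨ -1 ≤ b) : Subsingleton (Coh.HH (X k) (bi k a b) 2) :=
  subsingleton_bi k a b 2 fun p hp => by
    rcases lt_trichotomy p 1 with h' | rfl | h'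
    · exact .inr (PnCohLib.subsingleton_HH_twist b _ (fun e => by omega) (fun e => by omega))
    · exact h.imp (fun ha => PnCohLib.subsingleton_HH_twist a 1 (fun e => by omega) (fun e => by omega))
        (fun hb => PnCohLib.subsingleton_HH_twist b _ (fun e => by omega) (fun e => by omega))
    · exact .inl (PnCohLib.subsingleton_HH_twist a p (fun e => by omega) (fun e => by omega))

theorem finrank_bi (a b : ℕ) :
    Module.finrank k (Coh.HH (X k) (bi k a b) 0) = (a + 1) * (b + 1) := by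
  obtain ⟨e⟩ := nonempty_kunneth k (a : ℤ) (b : ℤ) 0
  have hr : ∀ m : ℕ, Module.finrank k (Coh.HH (CohB1.ProjSpace 1 k) (Twist.twistProjSpace 1 k (m : ℤ)) 0) = m + 1 :=
    fun m => by
    obtain ⟨f⟩ := PnCohLib.exists_HH_zero (n := 1) (R := k) le_rfl m
    rw [f.finrank_eq, Module.finrank_eq_nat_card_basis Finsupp.basisSingleOne, PnCohLib.card_deg]
    rw [add_comm 1 m, Nat.choose_symm_add, Nat.choose_one_right]
  haveI : IsProper (CohB1.ProjSpace 1 k ↘ Spec (CommRingCat.of k)) := ProjDegLib.toSpec_isProper k 1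
  haveI : ∀ (t : ℤ) (q : ℕ), Module.Finite k (Coh.HH (CohB1.ProjSpace 1 k) (Twist.twistProjSpace 1 k t) q) := fun t q =>
    CurvLib.finite_HH (HodgePnLib.isCoh_twist 1 k t) q
  rw [← e.finrank_eq, Module.finrank_pi_fintype, Fin.sum_univ_one,
    Module.finrank_tensorProduct]
  exact congrArg₂ (· * ·) (hr a) (hr b)

/-- Twists add. -/
theorem nonempty_bi_add (a b c d : ℤ) :
    Nonempty (CohB1.tensorMod (bi k a b) (bi k c d) ≅ bi k (a + c) (b + d)) := by
  obtain ⟨e₁⟩ := PicPnLib.twist_add 1 k a c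
  obtain ⟨e₂⟩ := PicPnLib.twist_add 1 k b d
  exact ⟨HilbPolyLib.assocIso _ _ _ ≪≫
    HilbPolyLib.congrRight _ ((HilbPolyLib.assocIso _ _ _).symm ≪≫
      HilbPolyLib.congrLeft (HilbPolyLib.swapIso _ _) _ ≪≫ HilbPolyLib.assocIso _ _ _) ≪≫
    (HilbPolyLib.assocIso _ _ _).symm ≪≫
    HilbPolyLib.congrLeft ((PicPnLib.pullTens _ _ _).symm ≪≫ (Scheme.Modules.pullback _).mapIso e₁) _ ≪≫
    HilbPolyLib.congrRight _ ((PicPnLib.pullTens _ _ _).symm ≪≫ (Scheme.Modules.pullback _).mapIso e₂)⟩

theorem nonempty_bi_zero : Nonempty (bi k 0 0 ≅ Coh.structureModule (X k)) := by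
  obtain ⟨e⟩ := PicPnLib.twist_zero 1 k
  exact ⟨HilbPolyLib.congrLeft ((Scheme.Modules.pullback _).mapIso e ≪≫ KFlatLib.pullUnitIso _) _ ≪≫
    HilbPolyLib.unitLeft _ ≪≫ (Scheme.Modules.pullback _).mapIso e ≪≫ KFlatLib.pullUnitIso _⟩

end QuadKerLib
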