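import Groth.Agent.QuadKerLib.Basic

/-!
# Kernels of matrices of linear forms on the quadric
-/

set_option autoImplicit false
set_option linter.style.haveILetI false
set_option linter.unusedSectionVars false
set_option maxHeartbeats 1000000
set_option backward.isDefEq.respectTransparency false
set_option backward.isDefEq.respectTransparency.types false

universe u

open CategoryTheory CategoryTheory.Limits AlgebraicGeometry TopologicalSpace

noncomputable section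

namespace QuadKerLib

variable (k : Type u) [Field k]

attribute [local instance] overX

/-- The Euler sequences of the two factors. -/
theorem exists_step (a b : ℤ) :
    (∃ T : ShortComplex (X k).Modules, T.ShortExact ∧ Nonempty (T.X₁ ≅ bi k (a - 2) b) ∧
      Nonempty (T.X₂ ≅ ⨁ fun _ : Fin 2 => bi k (a - 1) b) ∧ Nonempty (T.X₃ ≅ bi k a b)) ∧
    ∃ T : ShortComplex (X k).Modules, T.ShortExact ∧ Nonempty (T.X₁ ≅ bi k a (b - 2)) ∧
      Nonempty (T.X₂ ≅ ⨁ fun _ : Fin 2 => bi k a (b - 1)) ∧ Nonempty (T.X₃ ≅ bi k a b) := by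
  obtain ⟨w⟩ := EulerPnLib.omega_line_iso (k := k)
  have hS : (EulerPnLib.eulerSeq 1 k).ShortExact := EulerPnLib.shortExact_eulerSeq 1 k
  have h3 : FlatMod.IsFinLocFree (EulerPnLib.eulerSeq 1 k).X₃ :=
    AmpleDevLib.isFinLocFree_of_isInvertible (PicPnLib.twist_inv 1 k 0)
  obtain ⟨e0⟩ := PicPnLib.twist_zero 1 k
  have key : ∀ (g : X k ⟶ CohB1.ProjSpace 1 k) (L : (X k).Modules), PicF.IsInvertible L →
      ∃ T : ShortComplex (X k).Modules, T.ShortExact ∧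
        Nonempty (T.X₁ ≅ CohB1.tensorMod L ((Scheme.Modules.pullback g).obj (Twist.twistProjSpace 1 k (-2)))) ∧
        Nonempty (T.X₂ ≅ ⨁ fun _ : Fin 2 => CohB1.tensorMod L ((Scheme.Modules.pullback g).obj (Twist.twistProjSpace 1 k (-1)))) ∧
        Nonempty (T.X₃ ≅ L) := fun g L hL => by
    haveI : (Scheme.Modules.pullback g).Additive :=
      (Scheme.Modules.pullbackPushforwardAdjunction g).left_adjoint_additive
    let F := CurvLib.tensorLeft' L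
    exact ⟨((EulerPnLib.eulerSeq 1 k).map (Scheme.Modules.pullback g)).map F,
      HilbPolyLib.shortExact_tensor hL (VBResLib.shortExact_pullback_of_vb g hS h3),
      ⟨F.mapIso ((Scheme.Modules.pullback g).mapIso w)⟩,
      ⟨F.mapIso ((Scheme.Modules.pullback g).mapBiproduct _) ≪≫ F.mapBiproduct _⟩,
      ⟨F.mapIso ((Scheme.Modules.pullback g).mapIso e0 ≪≫ KFlatLib.pullUnitIso _) ≪≫ PicPnLib.unitRight _⟩⟩
  constructor
  · obtain ⟨T, hT, ⟨t₁⟩, ⟨t₂⟩, ⟨t₃⟩⟩ := key (pullback.fst _ _) (bi k a b) (inv_bi k a b)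
    have u : ∀ c : ℤ, Nonempty (CohB1.tensorMod (bi k a b) ((Scheme.Modules.pullback (pullback.fst (CohB1.ProjSpace.toSpec 1 k)
        (CohB1.ProjSpace.toSpec 1 k))).obj (Twist.twistProjSpace 1 k c)) ≅ bi k (a + c) b) := fun c => by
      obtain ⟨e⟩ := nonempty_bi_add k a b c 0
      exact ⟨HilbPolyLib.congrRight _ ((PicPnLib.unitRight _).symm ≪≫ HilbPolyLib.congrRight _
        ((Scheme.Modules.pullback _).mapIso e0 ≪≫ KFlatLib.pullUnitIso _).symm) ≪≫ e ≪≫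
        eqToIso (by rw [add_zero])⟩
    obtain ⟨u₁⟩ := u (-2)
    obtain ⟨u₂⟩ := u (-1)
    exact ⟨T, hT, ⟨t₁ ≪≫ u₁⟩, ⟨t₂ ≪≫ biproduct.mapIso fun _ => u₂⟩, ⟨t₃⟩⟩
  · obtain ⟨T, hT, ⟨t₁⟩, ⟨t₂⟩, ⟨t₃⟩⟩ := key (pullback.snd _ _) (bi k a b) (inv_bi k a b)
    have u : ∀ c : ℤ, Nonempty (CohB1.tensorMod (bi k a b) ((Scheme.Modules.pullback (pullback.snd (CohB1.ProjSpace.toSpec 1 k)
        (CohB1.ProjSpace.toSpec 1 k))).obj (Twist.twistProjSpace 1 k c)) ≅ bi k a (b + c)) := fun c => by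
      obtain ⟨e⟩ := nonempty_bi_add k a b 0 c
      exact ⟨HilbPolyLib.congrRight _ ((HilbPolyLib.unitLeft _).symm ≪≫ HilbPolyLib.congrLeft
        ((Scheme.Modules.pullback _).mapIso e0 ≪≫ KFlatLib.pullUnitIso _).symm _) ≪≫ e ≪≫
        eqToIso (by rw [add_zero])⟩
    obtain ⟨u₁⟩ := u (-2)
    obtain ⟨u₂⟩ := u (-1)
    exact ⟨T, hT, ⟨t₁ ≪≫ u₁⟩, ⟨t₂ ≪≫ biproduct.mapIso fun _ => u₂⟩, ⟨t₃⟩⟩

section Gen

variable {Y : Scheme.{u}} {T : ShortComplex Y.Modules} (hT : T.ShortExact)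

include hT in
theorem map_comp_eq_zero (q : ℕ) (x : Sheaf.H (T.map (QCohLib.toAbF Y)).X₁ q) :
    Sheaf.H.map (T.map (QCohLib.toAbF Y)).g q (Sheaf.H.map (T.map (QCohLib.toAbF Y)).f q x) = 0 := by
  rw [← Sheaf.H.map_comp_apply, (T.map (QCohLib.toAbF Y)).zero]
  show Abelian.Ext.comp x (Abelian.Ext.mk₀ 0) (add_zero q) = 0
  rw [Abelian.Ext.mk₀_zero, Abelian.Ext.comp_zero]

theorem delta_map (q : ℕ) (z : Sheaf.H (T.map (QCohLib.toAbF Y)).X₂ q) :
    AtlasCoh.hδ (QCohLib.toAbF_shortExact hT) q (Sheaf.H.map (T.map (QCohLib.toAbF Y)).g q z) = 0 := by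
  show (Abelian.Ext.comp z (Abelian.Ext.mk₀ _) (add_zero q)).comp (QCohLib.toAbF_shortExact hT).extClass rfl = 0
  rw [Abelian.Ext.comp_assoc_of_second_deg_zero, (QCohLib.toAbF_shortExact hT).comp_extClass, Abelian.Ext.comp_zero]

end Gen

section Ker

variable {k}

/-- A finite sum of copies of a bidegree twist. -/
def IsSum (M : (X k).Modules) (r : ℕ) (a b : ℤ) : Prop :=
  Nonempty (M ≅ ∐ fun _ : Fin r => bi k a b)

theorem IsSum.biprod_iso {M : (X k).Modules} {r : ℕ} {a b : ℤ} (h : IsSum M r a b) :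
    Nonempty (M ≅ ⨁ fun _ : Fin r => bi k a b) :=
  let ⟨e⟩ := h
  ⟨e ≪≫ (biproduct.isoCoproduct _).symm⟩

theorem IsSum.vb {M : (X k).Modules} {r : ℕ} {a b : ℤ} (h : IsSum M r a b) : FlatMod.IsFinLocFree M := by
  haveI := isLN_X k
  obtain ⟨e⟩ := h.biprod_iso
  exact Groth.Agent.PerfLib.isFinLocFree_of_iso e.symm
    (CIDivLib.isFinLocFree_biproduct _ fun _ => AmpleDevLib.isFinLocFree_of_isInvertible (inv_bi k a b))

theorem IsSum.sub {M : (X k).Modules} {r : ℕ} {a b : ℤ} (h : IsSum M r a b) (c d : ℤ) (q : ℕ)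
    (hq : Subsingleton (Coh.HH (X k) (bi k (c + a) (d + b)) q)) :
    Subsingleton (Coh.HH (X k) ((CurvLib.tensorLeft' (bi k c d)).obj M) q) := by
  obtain ⟨e⟩ := h.biprod_iso
  obtain ⟨e'⟩ := nonempty_bi_add k c d a b
  exact HdgLefLib.sub_iso ((CurvLib.tensorLeft' (bi k c d)).mapIso e ≪≫ (CurvLib.tensorLeft' (bi k c d)).mapBiproduct _ ≪≫
    biproduct.mapIso fun _ => e').symm q (HodgePnLib.subsingleton_biproduct _ q fun _ => hq)

/-- The split sequence of a biproduct. -/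
theorem shortExact_biprod (A B : (X k).Modules) :
    (ShortComplex.mk (biprod.inl : A ⟶ A ⊞ B) (biprod.snd : A ⊞ B ⟶ B) biprod.inl_snd).ShortExact :=
  (ShortComplex.Splitting.ofHasBinaryBiproduct A B).shortExact

theorem sub_biprod {A B : (X k).Modules} (F : (X k).Modules) (hF : PicF.IsInvertible F) (q : ℕ)
    (hA : Subsingleton (Coh.HH (X k) ((CurvLib.tensorLeft' F).obj A) q))
    (hB : Subsingleton (Coh.HH (X k) ((CurvLib.tensorLeft' F).obj B) q)) :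
    Subsingleton (Coh.HH (X k) ((CurvLib.tensorLeft' F).obj (A ⊞ B)) q) :=
  HdgLefLib.sub₂ (T := (ShortComplex.mk (biprod.inl : A ⟶ A ⊞ B) (biprod.snd : A ⊞ B ⟶ B) biprod.inl_snd).map
    (CurvLib.tensorLeft' F)) (HilbPolyLib.shortExact_tensor hF (shortExact_biprod A B)) hA hB

variable {r : ℕ} {Q₁ Q₂ P₂ : (X k).Modules} (hQ₁ : IsSum Q₁ r 1 0) (hQ₂ : IsSum Q₂ r 0 1) (hP₂ : IsSum P₂ r 1 1)
  (m : Q₁ ⊞ Q₂ ⟶ P₂) [Epi m]

/-- The twisted kernel sequence. -/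
def kerSeq (a b : ℤ) : ShortComplex (X k).Modules :=
  (ShortComplex.mk (kernel.ι m) m (kernel.condition m)).map (CurvLib.tensorLeft' (bi k a b))

theorem shortExact_kerSeq (a b : ℤ) : (kerSeq m a b).ShortExact :=
  HilbPolyLib.shortExact_tensor (inv_bi k a b)
    { exact := ShortComplex.exact_of_f_is_kernel _ (kernelIsKernel m)
      mono_f := inferInstanceAs (Mono (kernel.ι m))
      epi_g := inferInstanceAs (Epi m) }

include hQ₁ hQ₂ in
theorem sub_mid (a b : ℤ) (q : ℕ) (h₁ : Subsingleton (Coh.HH (X k) (bi k (a + 1) (b + 0)) q))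
    (h₂ : Subsingleton (Coh.HH (X k) (bi k (a + 0) (b + 1)) q)) :
    Subsingleton (Coh.HH (X k) (kerSeq m a b).X₂ q) :=
  sub_biprod (bi k a b) (inv_bi k a b) q (hQ₁.sub a b q h₁) (hQ₂.sub a b q h₂)

include hQ₁ hQ₂ hP₂ in
theorem ker_h2 (a b : ℤ) (ha : -2 ≤ a) (hb : -2 ≤ b) :
    Subsingleton (Coh.HH (X k) (kerSeq m a b).X₁ 2) :=
  HodgePnLib.sub₁_succ (shortExact_kerSeq m a b)
    (hP₂.sub a b 1 (sub1 k _ _ (.inr (by omega)) (.inl (by omega))))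
    (sub_mid hQ₁ hQ₂ m a b 2 (sub2 k _ _ (.inl (by omega))) (sub2 k _ _ (.inr (by omega))))

include hQ₁ hQ₂ hP₂ in
theorem ker_h1_neg (a : ℤ) (ha : a ≤ -2) : Subsingleton (Coh.HH (X k) (kerSeq m a a).X₁ 1) :=
  HodgePnLib.sub₁_succ (shortExact_kerSeq m a a)
    (hP₂.sub a a 0 (sub0 k _ _ (.inl (by omega))))
    (sub_mid hQ₁ hQ₂ m a a 1 (sub1 k _ _ (.inl (by omega)) (.inr (by omega)))
      (sub1 k _ _ (.inl (by omega)) (.inr (by omega))))

include hQ₁ hQ₂ hP₂ in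
theorem ker_zero (hm0 : Function.Surjective (Sheaf.H.map ((SheafOfModules.toSheaf _).map m) 0)) :
    Subsingleton (Coh.HH (X k) (kernel m) 0) ∧ Subsingleton (Coh.HH (X k) (kernel m) 1) := by
  haveI := isProper_X k
  haveI := isLN_X k
  have hS : (ShortComplex.mk (kernel.ι m) m (kernel.condition m)).ShortExact :=
    { exact := ShortComplex.exact_of_f_is_kernel _ (kernelIsKernel m)
      mono_f := inferInstanceAs (Mono (kernel.ι m))
      epi_g := inferInstanceAs (Epi m) }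
  have hz : ∀ (N : (X k).Modules) (c d : ℤ), IsSum N r c d → -1 ≤ c → -1 ≤ d → Subsingleton (Coh.HH (X k) N 1) := by
    intro N c d h hc hd
    obtain ⟨e⟩ := h.biprod_iso
    exact HdgLefLib.sub_iso e.symm 1 (HodgePnLib.subsingleton_biproduct _ 1 fun _ => sub1 k c d (.inr hd) (.inl hc))
  have hQ : Subsingleton (Coh.HH (X k) (Q₁ ⊞ Q₂) 1) :=
    HdgLefLib.sub₂ (shortExact_biprod Q₁ Q₂) (hz Q₁ 1 0 hQ₁ (by omega) (by omega)) (hz Q₂ 0 1 hQ₂ (by omega) (by omega))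
  have hdim : ∀ (N : (X k).Modules) (c d : ℕ), IsSum N r (c : ℤ) (d : ℤ) →
      Module.finrank k (Coh.HH (X k) N 0) = r * ((c + 1) * (d + 1)) := by
    intro N c d h
    obtain ⟨e⟩ := h.biprod_iso
    haveI : ∀ j : Fin r, Module.Finite k (Coh.HH (X k) ((fun _ : Fin r => bi k (c : ℤ) (d : ℤ)) j) 0) := fun _ =>
      CurvLib.finite_HH (Groth.Agent.PerfLib.isCoh_of_isFinLocFree (AmpleDevLib.isFinLocFree_of_isInvertible (inv_bi k _ _))) 0
    rw [(CurvLib.hIso (k := k) e 0).finrank_eq, HodgePnLib.finrank_biproduct, Finset.sum_const, Finset.card_univ,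
      Fintype.card_fin, smul_eq_mul, finrank_bi]
  have hv := CIDivLib.isFinLocFree_X₂ (shortExact_biprod Q₁ Q₂) hQ₁.vb hQ₂.vb
  haveI : Module.Finite k (Coh.HH (X k) (Q₁ ⊞ Q₂) 0) := CurvLib.finite_HH (Groth.Agent.PerfLib.isCoh_of_isFinLocFree hv) 0
  haveI : Module.Finite k (Coh.HH (X k) P₂ 0) := CurvLib.finite_HH (Groth.Agent.PerfLib.isCoh_of_isFinLocFree hP₂.vb) 0
  haveI : Module.Finite k (Coh.HH (X k) Q₁ 0) := CurvLib.finite_HH (Groth.Agent.PerfLib.isCoh_of_isFinLocFree hQ₁.vb) 0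
  haveI : Module.Finite k (Coh.HH (X k) Q₂ 0) := CurvLib.finite_HH (Groth.Agent.PerfLib.isCoh_of_isFinLocFree hQ₂.vb) 0
  have hsum : Module.finrank k (Coh.HH (X k) (Q₁ ⊞ Q₂) 0) = Module.finrank k (Coh.HH (X k) P₂ 0) := by
    let l : Coh.HH (X k) (Q₁ ⊞ Q₂) 0 →ₗ[k] Coh.HH (X k) Q₂ 0 := CurvLib.hMap (k := k) (biprod.snd : Q₁ ⊞ Q₂ ⟶ Q₂) 0
    let j : Coh.HH (X k) Q₁ 0 →ₗ[k] Coh.HH (X k) (Q₁ ⊞ Q₂) 0 := CurvLib.hMap (k := k) (biprod.inl : Q₁ ⟶ Q₁ ⊞ Q₂) 0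
    have hl : Function.Surjective l := HdgLefLib.surjective_g (k := k) (shortExact_biprod Q₁ Q₂)
      (hz Q₁ 1 0 hQ₁ (by omega) (by omega))
    have hj : Function.Injective j :=
      AtlasCoh.hMap_injective (QCohLib.toAbF_shortExact (shortExact_biprod Q₁ Q₂))
    have hker : LinearMap.ker l = LinearMap.range j := by
      ext y
      constructor
      · intro hy
        obtain ⟨x, hx⟩ := AtlasCoh.hExact₂ (QCohLib.toAbF_shortExact (shortExact_biprod Q₁ Q₂)) 0 y hy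
        exact ⟨x, hx⟩
      · rintro ⟨x, rfl⟩
        exact map_comp_eq_zero (shortExact_biprod Q₁ Q₂) 0 x
    have h := l.finrank_range_add_finrank_ker
    rw [LinearMap.range_eq_top.2 hl, finrank_top, hker, LinearMap.finrank_range_of_inj hj] at h
    rw [← h, hdim Q₁ 1 0 hQ₁, hdim Q₂ 0 1 hQ₂, hdim P₂ 1 1 hP₂]
    ring
  have hinj : Function.Injective (CurvLib.hMap (k := k) m 0) :=
    (LinearMap.injective_iff_surjective_of_finrank_eq_finrank hsum).2 hm0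
  refine ⟨?_, subsingleton_of_forall_eq 0 fun y => ?_⟩
  · exact subsingleton_of_forall_eq 0 fun y => by
      refine AtlasCoh.hMap_injective (QCohLib.toAbF_shortExact hS) ?_
      refine (hinj ?_).trans (map_zero _).symm
      rw [map_zero]
      exact map_comp_eq_zero hS 0 y
  · obtain ⟨x, hx⟩ := AtlasCoh.hExact₁ (QCohLib.toAbF_shortExact hS) 0 y (hQ.elim _ _)
    obtain ⟨z, rfl⟩ := hm0 x
    rw [← hx]
    exact delta_map hS 0 z

include hQ₁ hQ₂ hP₂ in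
theorem ker_h1_pos (hm0 : Function.Surjective (Sheaf.H.map ((SheafOfModules.toSheaf _).map m) 0)) :
    ∀ a b : ℕ, Subsingleton (Coh.HH (X k) (kerSeq m (a : ℤ) (b : ℤ)).X₁ 1) := by
  haveI := isLN_X k
  have hK : FlatMod.IsFinLocFree (kernel m) :=
    AmpleNilLib.vb_kernel (CIDivLib.isFinLocFree_X₂ (shortExact_biprod Q₁ Q₂) hQ₁.vb hQ₂.vb) hP₂.vb m
  let Fk := CurvLib.tensorLeft' (kernel m)
  have mid : ∀ (M : Fin 2 → (X k).Modules) (q : ℕ), (∀ i, Subsingleton (Coh.HH (X k) (Fk.obj (M i)) q)) →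
      Subsingleton (Coh.HH (X k) (Fk.obj (⨁ M)) q) := fun M q h =>
    HdgLefLib.sub_iso (Fk.mapBiproduct M).symm q (HodgePnLib.subsingleton_biproduct _ q h)
  have sw : ∀ (c d : ℤ) (q : ℕ), Subsingleton (Coh.HH (X k) (kerSeq m c d).X₁ q) →
      Subsingleton (Coh.HH (X k) (Fk.obj (bi k c d)) q) := fun c d q h =>
    HdgLefLib.sub_iso (HilbPolyLib.swapIso (bi k c d) (kernel m)) q h
  have stepA : ∀ a b : ℤ, -1 ≤ a → 0 ≤ b → Subsingleton (Coh.HH (X k) (kerSeq m a b).X₁ 1) →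
      Subsingleton (Coh.HH (X k) (kerSeq m (a + 1) b).X₁ 1) := fun a b ha hb h => by
    obtain ⟨⟨T, hT, ⟨t₁⟩, ⟨t₂⟩, ⟨t₃⟩⟩, -⟩ := exists_step k (a + 1) b
    refine HdgLefLib.sub_iso (Fk.mapIso t₃ ≪≫ HilbPolyLib.swapIso _ _) 1
      (HodgePnLib.sub₃ (ProjFormLib.shortExact_tens hK hT) ?_ ?_)
    · exact HdgLefLib.sub_iso (Fk.mapIso t₂).symm 1 (mid _ 1 fun _ => sw _ _ 1 (by rwa [add_sub_cancel_right]))
    · exact HdgLefLib.sub_iso (Fk.mapIso t₁).symm 2 (sw _ _ 2 (ker_h2 hQ₁ hQ₂ hP₂ m _ _ (by omega) (by omega)))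
  have stepB : ∀ a b : ℤ, 0 ≤ a → -1 ≤ b → Subsingleton (Coh.HH (X k) (kerSeq m a b).X₁ 1) →
      Subsingleton (Coh.HH (X k) (kerSeq m a (b + 1)).X₁ 1) := fun a b ha hb h => by
    obtain ⟨-, T, hT, ⟨t₁⟩, ⟨t₂⟩, ⟨t₃⟩⟩ := exists_step k a (b + 1)
    refine HdgLefLib.sub_iso (Fk.mapIso t₃ ≪≫ HilbPolyLib.swapIso _ _) 1
      (HodgePnLib.sub₃ (ProjFormLib.shortExact_tens hK hT) ?_ ?_)
    · exact HdgLefLib.sub_iso (Fk.mapIso t₂).symm 1 (mid _ 1 fun _ => sw _ _ 1 (by rwa [add_sub_cancel_right]))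
    · exact HdgLefLib.sub_iso (Fk.mapIso t₁).symm 2 (sw _ _ 2 (ker_h2 hQ₁ hQ₂ hP₂ m _ _ (by omega) (by omega)))
  intro a b
  induction b with
  | zero =>
    induction a with
    | zero =>
      obtain ⟨e⟩ := nonempty_bi_zero k
      exact HdgLefLib.sub_iso (HilbPolyLib.congrLeft e (kernel m) ≪≫ HilbPolyLib.unitLeft _).symm 1
        (ker_zero hQ₁ hQ₂ hP₂ m hm0).2
    | succ a ih => exact_mod_cast stepA (a : ℤ) 0 (by omega) le_rfl ih
  | succ b ih => exact_mod_cast stepB (a : ℤ) (b : ℤ) (by omega) (by omega) ih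

include hQ₁ hQ₂ hP₂ in
/-- **The vanishings for the kernel.** -/
theorem ker_main (hm0 : Function.Surjective (Sheaf.H.map ((SheafOfModules.toSheaf _).map m) 0)) :
    Subsingleton (Coh.HH (X k) (kernel m) 0) ∧ Subsingleton (Coh.HH (X k) (kernel m) 1) ∧
      Subsingleton (Coh.HH (X k) (CohB1.tensorMod (kernel m) (bi k (-2) (-2))) 2) ∧
      ∀ t : ℤ, Subsingleton (Coh.HH (X k) (CohB1.tensorMod (kernel m) (bi k (2 * t) (2 * t))) 1) := by
  refine ⟨(ker_zero hQ₁ hQ₂ hP₂ m hm0).1, (ker_zero hQ₁ hQ₂ hP₂ m hm0).2,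
    HdgLefLib.sub_iso (HilbPolyLib.swapIso _ _) 2 (ker_h2 hQ₁ hQ₂ hP₂ m _ _ le_rfl le_rfl), fun t => ?_⟩
  refine HdgLefLib.sub_iso (HilbPolyLib.swapIso _ _) 1 ?_
  rcases le_or_gt 0 t with ht | ht
  · have h := ker_h1_pos hQ₁ hQ₂ hP₂ m hm0 (2 * t).toNat (2 * t).toNat
    rwa [Int.toNat_of_nonneg (by omega)] at h
  · exact ker_h1_neg hQ₁ hQ₂ hP₂ m _ (by omega)

end Ker

end QuadKerLib
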